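import Cfsg.Agent.Lib.Helper29.TcCox
import Cfsg.Prelude.Def_Spor_Suz
import Cfsg.Agent.Lib.Helper29.SuzD.Tab0

/-! Generated certificate data for SuzD (Suz): tables of a Todd–Coxeter trace and of the coset action. -/

set_option autoImplicit false

namespace Cfsg.Agent.Lib.Helper29.SuzD

open Cfsg.Agent.Lib.Helper29.TcTrace Cfsg.Agent.Lib.Helper29.TcCert Cfsg.Agent.Lib.Helper29.TcPerm

def nodesL : List Cfsg.Spor.Suz.Gen := [.a, .b, .c, .d]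
def edgesQ : List (Cfsg.Spor.Suz.Gen × ℕ × Cfsg.Spor.Suz.Gen) := [(.a, 5, .b), (.b, 3, .c), (.c, 8, .d)]
def extraWords : List (List (Cfsg.Spor.Suz.Gen × Bool)) := [[(.a, true), (.d, false), (.c, false), (.d, false), (.c, false), (.d, false), (.c, false), (.d, false), (.c, false)],
  [(.e, true)],
  [(.f, true)],
  [(.g, true)]]
def hWords : List (List (Cfsg.Spor.Suz.Gen × Bool)) := [[(.a, true)],
  [(.b, true)]]
def colOf : Cfsg.Spor.Suz.Gen × Bool → ℕ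
  | (.a, _) => 0
  | (.b, _) => 1
  | (.c, _) => 2
  | (.d, _) => 3
  | (.e, true) => 4
  | (.e, false) => 5
  | (.f, true) => 6
  | (.f, false) => 7
  | (.g, true) => 8
  | (.g, false) => 9
def colLetters : List (Cfsg.Spor.Suz.Gen × Bool) := [(.a, true), (.b, true), (.c, true), (.d, true), (.e, true), (.e, false), (.f, true), (.f, false), (.g, true), (.g, false)]
def invL : List ℕ := [0, 1, 2, 3, 5, 4, 7, 6, 9, 8]
def vtree : WTree := (.node (.node (.node (.node (.node (.node (.leaf 26 0 []) (.leaf 20 1 [7, 6])) (.node (.leaf 9 0 [3, 3]) (.leaf 26 0 []))) (.node (.node (.leaf 4 0 [1, 1]) (.leaf 26 0 [])) (.node (.leaf 10 7 [3, 2, 0, 3, 2, 3, 2, 3, 2]) (.leaf 26 0 [])))) (.node (.node (.node (.leaf 2 0 [0, 2, 0, 2]) (.leaf 24 1 [10, 0])) (.node (.leaf 10 3 [3, 2, 3, 2, 3, 2, 0, 3, 2]) (.leaf 26 0 []))) (.node (.node (.leaf 6 1 [3, 1, 3, 1])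 (.leaf 26 0 [])) (.node (.leaf 13 0 [8]) (.leaf 26 0 []))))) (.node (.node (.node (.node (.leaf 1 0 [0, 1, 0, 1, 0, 1, 0, 1, 0, 1]) (.leaf 22 1 [9, 8])) (.node (.leaf 10 1 [3, 2, 3, 2, 3, 2, 3, 2, 0]) (.leaf 26 0 []))) (.node (.node (.leaf 5 1 [2, 1, 2, 1, 2, 1]) (.leaf 26 0 [])) (.node (.leaf 11 0 [4]) (.leaf 26 0 [])))) (.node (.node (.node (.leaf 3 0 [0, 3, 0, 3]) (.leaf 25 1 [11, 1])) (.node (.leaf 10 5 [3, 2, 3, 2, 0, 3, 2, 3, 2]) (.leaf 26 0 []))) (.node (.node (.leaf 8 0 [2, 3, 2, 3, 2, 3, 2, 3, 2, 3, 2, 3, 2, 3, 2, 3]) (.leaf 26 0 [])) (.node (.leaf 18 1 [5, 4]) (.leaf 26 0 [])))))) (.node (.node (.node (.node (.node (.leaf 0 0 [0, 0]) (.leaf 22 0 [8, 9])) (.node (.leaf 10 0 [0, 3, 2, 3, 2, 3, 2, 3, 2]) (.leaf 26 0 []))) (.node (.node (.leaf 5 0 [1, 2, 1, 2, 1, 2]) (.leaf 26 0 [])) (.node (.leaf 10 8 [2, 0, 3, 2, 3, 2, 3, 2, 3]) (.leaf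 26 0 [])))) (.node (.node (.node (.leaf 2 1 [2, 0, 2, 0]) (.leaf 25 0 [1, 11])) (.node (.leaf 10 4 [2, 3, 2, 3, 2, 0, 3, 2, 3]) (.leaf 26 0 []))) (.node (.node (.leaf 7 0 [2, 2]) (.leaf 26 0 [])) (.node (.leaf 18 0 [4, 5]) (.leaf 26 0 []))))) (.node (.node (.node (.node (.leaf 1 1 [1, 0, 1, 0, 1, 0, 1, 0, 1, 0]) (.leaf 24 0 [0, 10])) (.node (.leaf 10 2 [2, 3, 2, 3, 2, 3, 2, 0, 3]) (.leaf 26 0 []))) (.node (.node (.leaf 6 0 [1, 3, 1, 3]) (.leaf 26 0 [])) (.node (.leaf 12 0 [6]) (.leaf 26 0 [])))) (.node (.node (.node (.leaf 3 1 [3, 0, 3, 0]) (.leaf 26 0 [])) (.node (.leaf 10 6 [2, 3, 2, 0, 3, 2, 3, 2, 3]) (.leaf 26 0 []))) (.node (.node (.leaf 8 1 [3, 2, 3, 2, 3, 2, 3, 2, 3, 2, 3, 2, 3, 2, 3, 2]) (.leaf 26 0 [])) (.node (.leaf 20 0 [6, 7]) (.leaf 26 0 [])))))))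
noncomputable def VL : List ℕ := [V0, V1, V2, V3, V4, V5, V6, V7, V8, V9]
noncomputable def RL : List ℕ := [R0, R1, R2, R3, R4, R5, R6, R7, R8, R9, R10, R11]
noncomputable def D : Data := mkData 17 115906 216 8 131071 VL RL MG MT PAR PL FIN VERT vtree
def lay : Layout := ⟨17, 131071, 6, 63, 83⟩
def cols : List ℕ := [0, 1, 2, 3, 4, 5, 6, 7, 8, 9]
def baseL : List (List ℕ) := [[0, 0],
  [0, 1, 0, 1, 0, 1, 0, 1, 0, 1],
  [0, 2, 0, 2],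
  [0, 3, 0, 3],
  [1, 1],
  [1, 2, 1, 2, 1, 2],
  [1, 3, 1, 3],
  [2, 2],
  [2, 3, 2, 3, 2, 3, 2, 3, 2, 3, 2, 3, 2, 3, 2, 3],
  [3, 3],
  [0, 3, 2, 3, 2, 3, 2, 3, 2],
  [4],
  [6],
  [8],
  [0, 0],
  [1, 1],
  [2, 2],
  [3, 3],
  [4, 5],
  [5, 4],
  [6, 7],
  [7, 6],
  [8, 9],
  [9, 8],
  [0, 10],
  [1, 11]]
noncomputable def LL : List ℕ := [L0, L1, L2, L3, L4, L5, L6, L7, L8, L9]
noncomputable def P : LP where
  WL := 12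
  WLn := 2592
  mskL := 4095
  LL := LL
  cols := [0, 1, 2, 3, 4, 5, 6, 7, 8, 9]
  rels := [[0, 0],
    [0, 1, 0, 1, 0, 1, 0, 1, 0, 1],
    [0, 2, 0, 2],
    [0, 3, 0, 3],
    [1, 1],
    [1, 2, 1, 2, 1, 2],
    [1, 3, 1, 3],
    [2, 2],
    [2, 3, 2, 3, 2, 3, 2, 3, 2, 3, 2, 3, 2, 3, 2, 3],
    [3, 3],
    [0, 3, 2, 3, 2, 3, 2, 3, 2],
    [4],
    [6],
    [8],
    [0, 0],
    [1, 1],
    [2, 2],
    [3, 3],
    [4, 5],
    [5, 4],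
    [6, 7],
    [7, 6],
    [8, 9],
    [9, 8]]
  hws := [[0],
    [1]]
  twl := [[],
    [0],
    [1],
    [0],
    [1],
    [2],
    [3],
    [4],
    [5],
    [6],
    [7],
    [8],
    [9]]
  nH := 2
  bounds := [12, 72, 84, 144, 204, 264, 384, 504, 564, 624, 744, 864, 984, 1104, 1224, 1284, 1344, 1404, 1464, 1584, 1704, 1824, 1944, 2004, 2064, 2124, 2184, 2304, 2364, 2424, 2436, 2448, 2508, 2568, 2580]

end Cfsg.Agent.Lib.Helper29.SuzD
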